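import Mathlib

/-!
# The Schrödinger model of a finite Heisenberg group and its intertwiners
-/

set_option autoImplicit false

namespace CfsgLib.PLocal.Weil

open Matrix

variable {F : Type*} [Field F] {n : ℕ}

/-- The position coordinates. -/
def px (v : Fin n ⊕ Fin n → F) : Fin n → F := fun i => v (.inl i)

/-- The momentum coordinates. -/
def py (v : Fin n ⊕ Fin n → F) : Fin n → F := fun i => v (.inr i)

/-- The symplectic pairing. -/
def om (v w : Fin n ⊕ Fin n → F) : F := v ⬝ᵥ (Matrix.J (Fin n) F *ᵥ w)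

theorem om_eq (v w : Fin n ⊕ Fin n → F) : om v w = py v ⬝ᵥ px w - px v ⬝ᵥ py w := by
  simp [om, px, py, Matrix.J, Matrix.fromBlocks_mulVec, dotProduct, Fintype.sum_sum_type,
    Matrix.neg_mulVec, Finset.sum_neg_distrib]
  ring

theorem om_mulVec {A : Matrix (Fin n ⊕ Fin n) (Fin n ⊕ Fin n) F}
    (hA : A ∈ Matrix.symplecticGroup (Fin n) F) (v w : Fin n ⊕ Fin n → F) :
    om (A *ᵥ v) (A *ᵥ w) = om v w := by
  rw [om, om, ← vecMul_transpose, ← dotProduct_mulVec, mulVec_mulVec, mulVec_mulVec,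
    SymplecticGroup.mem_iff'.1 hA]

theorem om_self (v : Fin n ⊕ Fin n → F) : om v v = 0 := by
  rw [om_eq, dotProduct_comm]; ring

theorem om_neg_right (v w : Fin n ⊕ Fin n → F) : om v (-w) = -om v w := by
  simp [om, mulVec_neg]

theorem px_add (v w : Fin n ⊕ Fin n → F) : px (v + w) = px v + px w := rfl

theorem py_add (v w : Fin n ⊕ Fin n → F) : py (v + w) = py v + py w := rfl

variable [Fintype F] [DecidableEq F] (ψ : AddChar F ℂ)

/-- The Heisenberg operators. -/
noncomputable def op (v : Fin n ⊕ Fin n → F) : Matrix (Fin n → F) (Fin n → F) ℂ :=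
  fun x y => if y = x + px v then ψ (py v ⬝ᵥ x + 2⁻¹ * (px v ⬝ᵥ py v)) else 0

/-- The parity operator. -/
def par (n : ℕ) (F : Type*) [Field F] [DecidableEq F] : Matrix (Fin n → F) (Fin n → F) ℂ :=
  fun x y => if y = -x then 1 else 0

theorem op_zero : op ψ (0 : Fin n ⊕ Fin n → F) = 1 := by
  ext x y
  have h0 : px (0 : Fin n ⊕ Fin n → F) = 0 := rfl
  have h1 : py (0 : Fin n ⊕ Fin n → F) = 0 := rfl
  simp [op, h0, h1, Matrix.one_apply, eq_comm]

theorem op_mul (h2 : (2 : F) ≠ 0) (v w : Fin n ⊕ Fin n → F) :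
    op ψ v * op ψ w = ψ (-(2⁻¹ * om v w)) • op ψ (v + w) := by
  ext x z
  simp only [Matrix.mul_apply, op, Matrix.smul_apply, smul_eq_mul]
  rw [Finset.sum_eq_single (x + px v)]
  rotate_left
  · intro y _ hy; rw [if_neg hy, zero_mul]
  · simp
  simp only [if_true, px_add, py_add, add_assoc]
  by_cases hz : z = x + (px v + px w)
  swap
  · simp [hz]
  simp only [hz, if_true, ← AddChar.map_add_eq_mul]
  refine congrArg ψ ?_
  simp only [dotProduct_add, add_dotProduct, om_eq]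
  rw [dotProduct_comm (py w) (px v), dotProduct_comm (py v) (px w)]
  linear_combination (px v ⬝ᵥ py w) * (-(inv_mul_cancel₀ h2))

theorem op_neg_mul (h2 : (2 : F) ≠ 0) (v : Fin n ⊕ Fin n → F) : op ψ (-v) * op ψ v = 1 := by
  rw [op_mul ψ h2, neg_add_cancel, op_zero]
  have : om (-v) v = 0 := by rw [om, neg_dotProduct]; exact neg_eq_zero.2 (om_self v)
  simp [this]

theorem trace_op (hψ : ψ.IsPrimitive) (v : Fin n ⊕ Fin n → F) :
    (op ψ v).trace = if v = 0 then (Fintype.card F : ℂ) ^ n else 0 := by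
  split_ifs with h
  · rw [h, op_zero, Matrix.trace_one]; simp
  · by_cases hx : px v = 0
    · obtain ⟨j, hj⟩ : ∃ j, py v j ≠ 0 := by
        by_contra! hc
        refine h (funext fun i => ?_)
        rcases i with i | i
        exacts [congrFun hx i, hc i]
      let φ : (Fin n → F) →+ F :=
        { toFun := fun x => py v ⬝ᵥ x, map_zero' := dotProduct_zero _, map_add' := dotProduct_add _ }
      have hne : ψ.compAddMonoidHom φ ≠ 1 := by
        obtain ⟨t, ht⟩ := AddChar.ne_one_iff.1 (hψ hj)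
        refine AddChar.ne_one_iff.2 ⟨Pi.single j t, ?_⟩
        simpa [φ] using ht
      simp only [Matrix.trace, Matrix.diag, op, hx, add_zero, if_true, zero_dotProduct, mul_zero]
      exact AddChar.sum_eq_zero_of_ne_one hne
    · simp [Matrix.trace, Matrix.diag, op, hx]

/-- The twirl is the trace. -/
theorem twirl (h2 : (2 : F) ≠ 0) (hψ : ψ.IsPrimitive) (M : Matrix (Fin n → F) (Fin n → F) ℂ) :
    ∑ v : Fin n ⊕ Fin n → F, op ψ v * M * op ψ (-v) =
      ((Fintype.card F : ℂ) ^ n * M.trace) • 1 := by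
  ext x z
  rw [Matrix.sum_apply]
  have key : ∀ v : Fin n ⊕ Fin n → F, (op ψ v * M * op ψ (-v)) x z =
      ψ (py v ⬝ᵥ (x - z)) * M (x + px v) (z + px v) := by
    intro v
    have hn : px (-v) = -px v := rfl
    have hn' : py (-v) = -py v := rfl
    have e : ∀ y, (op ψ v * M) x y = ψ (py v ⬝ᵥ x + 2⁻¹ * (px v ⬝ᵥ py v)) * M (x + px v) y := fun y => by
      rw [Matrix.mul_apply, Finset.sum_eq_single (x + px v) (fun y _ hy => by simp [op, hy]) (by simp)]
      simp [op]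
    rw [Matrix.mul_apply, Finset.sum_eq_single (z + px v)
      (fun y _ hy => by
        rw [show op ψ (-v) y z = 0 from if_neg fun h => hy (by rw [h, hn, add_assoc, neg_add_cancel, add_zero]),
          mul_zero])
      (by simp), e]
    simp only [op, hn, hn', add_neg_cancel_right, if_true, neg_dotProduct, dotProduct_neg, neg_neg]
    rw [mul_right_comm, ← AddChar.map_add_eq_mul]
    congr 2
    rw [dotProduct_add, dotProduct_sub, dotProduct_comm (py v) (px v)]
    linear_combination (px v ⬝ᵥ py v) * mul_inv_cancel₀ h2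
  simp only [key]
  rw [← (Equiv.sumArrowEquivProdArrow (Fin n) (Fin n) F).symm.sum_comp, Fintype.sum_prod_type]
  have hp : ∀ a b : Fin n → F, px ((Equiv.sumArrowEquivProdArrow (Fin n) (Fin n) F).symm (a, b)) = a ∧
      py ((Equiv.sumArrowEquivProdArrow (Fin n) (Fin n) F).symm (a, b)) = b := fun a b => ⟨rfl, rfl⟩
  simp only [fun a b => (hp a b).1, fun a b => (hp a b).2, ← Finset.sum_mul]
  have hs : ∑ b : Fin n → F, ψ (b ⬝ᵥ (x - z)) = if x = z then (Fintype.card F : ℂ) ^ n else 0 := by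
    split_ifs with h
    · simp [h]
    · obtain ⟨j, hj⟩ : ∃ j, (x - z) j ≠ 0 := by
        by_contra! hc; exact h (sub_eq_zero.1 (funext hc))
      let φ : (Fin n → F) →+ F :=
        { toFun := fun b => b ⬝ᵥ (x - z), map_zero' := zero_dotProduct _,
          map_add' := fun a b => add_dotProduct a b _ }
      obtain ⟨t, ht⟩ := AddChar.ne_one_iff.1 (hψ hj)
      refine AddChar.sum_eq_zero_of_ne_one (ψ := ψ.compAddMonoidHom φ)
        (AddChar.ne_one_iff.2 ⟨Pi.single j t, ?_⟩)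
      simpa [φ, mul_comm, sub_eq_add_neg, mul_add, mul_neg, dotProduct_comm] using ht
  rw [hs]
  by_cases hxz : x = z
  · subst hxz
    simp only [if_true, Matrix.smul_apply, Matrix.one_apply_eq, smul_eq_mul, mul_one, Matrix.trace,
      Matrix.diag, Finset.mul_sum]
    exact Fintype.sum_equiv (Equiv.addLeft x) _ _ (fun a => by simp)
  · simp [hxz]

theorem scalar_of_commute (h2 : (2 : F) ≠ 0) (hψ : ψ.IsPrimitive)
    {M : Matrix (Fin n → F) (Fin n → F) ℂ} (hM : ∀ v, op ψ v * M = M * op ψ v) :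
    ∃ c : ℂ, M = c • 1 := by
  have h := twirl ψ h2 hψ M
  have e : ∀ v, op ψ v * M * op ψ (-v) = M := fun v => by
    rw [hM, Matrix.mul_assoc, show op ψ v * op ψ (-v) = 1 from mul_eq_one_comm.1 (op_neg_mul ψ h2 v),
      Matrix.mul_one]
  simp only [e, Finset.sum_const, Finset.card_univ] at h
  have hq : (Fintype.card (Fin n ⊕ Fin n → F) : ℂ) ≠ 0 := Nat.cast_ne_zero.2 Fintype.card_ne_zero
  exact ⟨(Fintype.card (Fin n ⊕ Fin n → F) : ℂ)⁻¹ * ((Fintype.card F : ℂ) ^ n * M.trace), by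
    rw [← smul_smul, ← h, ← Nat.cast_smul_eq_nsmul ℂ, inv_smul_smul₀ hq]⟩

/-- An intertwiner of `A`. -/
def Inter (A : Matrix (Fin n ⊕ Fin n) (Fin n ⊕ Fin n) F)
    (M : Matrix (Fin n → F) (Fin n → F) ℂ) : Prop :=
  ∀ v, M * op ψ v = op ψ (A *ᵥ v) * M

theorem Inter.mul {A B : Matrix (Fin n ⊕ Fin n) (Fin n ⊕ Fin n) F}
    {M N : Matrix (Fin n → F) (Fin n → F) ℂ} (hM : Inter ψ A M) (hN : Inter ψ B N) :
    Inter ψ (A * B) (M * N) := fun v => by
  rw [Matrix.mul_assoc, hN, ← Matrix.mul_assoc, hM, Matrix.mul_assoc, mulVec_mulVec]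

theorem inter_one : Inter ψ (1 : Matrix (Fin n ⊕ Fin n) (Fin n ⊕ Fin n) F) 1 := fun v => by
  simp

theorem exists_inter (h2 : (2 : F) ≠ 0) (hψ : ψ.IsPrimitive)
    {A : Matrix (Fin n ⊕ Fin n) (Fin n ⊕ Fin n) F} (hA : A ∈ Matrix.symplecticGroup (Fin n) F) :
    ∃ M : Matrix (Fin n → F) (Fin n → F) ℂ, M ≠ 0 ∧ Inter ψ A M := by
  classical
  let T : Matrix (Fin n → F) (Fin n → F) ℂ → Matrix (Fin n → F) (Fin n → F) ℂ := fun Y =>
    ∑ v : Fin n ⊕ Fin n → F, op ψ (A *ᵥ v) * Y * op ψ (-v)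
  have hT : ∀ Y, Inter ψ A (T Y) := by
    intro Y u
    have key : ∀ v, op ψ (A *ᵥ v) * Y * op ψ (-v) * op ψ u =
        op ψ (A *ᵥ u) * (op ψ (A *ᵥ (v - u)) * Y * op ψ (-(v - u))) := by
      intro v
      rw [Matrix.mul_assoc _ (op ψ (-v)), op_mul ψ h2 (-v) u]
      conv_rhs => rw [← Matrix.mul_assoc, ← Matrix.mul_assoc, op_mul ψ h2, ← mulVec_add, add_sub_cancel]
      rw [show -v + u = -(v - u) by abel, Matrix.mul_smul, Matrix.smul_mul, Matrix.smul_mul]
      congr 3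
      rw [om_mulVec hA, sub_eq_add_neg v u]
      simp only [om_eq, px_add, py_add, add_dotProduct, dotProduct_add,
        show ∀ z : Fin n ⊕ Fin n → F, px (-z) = -px z from fun _ => rfl,
        show ∀ z : Fin n ⊕ Fin n → F, py (-z) = -py z from fun _ => rfl, neg_dotProduct, dotProduct_neg]
      rw [dotProduct_comm (py v) (px u), dotProduct_comm (py u) (px v), dotProduct_comm (py u) (px u)]
      ring
    simp only [T, Finset.sum_mul, Finset.mul_sum, key]
    exact Fintype.sum_equiv (Equiv.subRight u) _ _ (fun v => rfl)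
  by_contra! hc
  have h0 : ∀ Y, T Y = 0 := fun Y => by_contra fun h => hc _ h (hT Y)
  have hsum : ∑ i, ∑ j, T (Matrix.single i j 1) i j =
      ∑ v : Fin n ⊕ Fin n → F, (op ψ (A *ᵥ v)).trace * (op ψ (-v)).trace := by
    simp only [T, Matrix.sum_apply]
    rw [Finset.sum_comm]
    conv_lhs => enter [2, j]; rw [Finset.sum_comm]
    rw [Finset.sum_comm]
    refine Finset.sum_congr rfl fun v _ => ?_
    simp only [Matrix.trace, Matrix.diag, Finset.mul_sum, Finset.sum_mul]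
    refine Finset.sum_congr rfl fun j _ => Finset.sum_congr rfl fun i _ => ?_
    simp [Matrix.mul_apply, Matrix.single, Finset.sum_ite_eq', ite_and]
  simp only [h0, Matrix.zero_apply, Finset.sum_const_zero] at hsum
  rw [Finset.sum_eq_single (0 : Fin n ⊕ Fin n → F) (fun v _ hv => by
      rw [trace_op ψ hψ (-v), if_neg (neg_ne_zero.2 hv), mul_zero]) (by simp),
    mulVec_zero, neg_zero, trace_op ψ hψ, if_pos rfl] at hsum
  exact pow_ne_zero n (Nat.cast_ne_zero.2 Fintype.card_ne_zero) (mul_self_eq_zero.1 hsum.symm)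

theorem mul_ne_zero_of_inter (h2 : (2 : F) ≠ 0) (hψ : ψ.IsPrimitive)
    {B : Matrix (Fin n ⊕ Fin n) (Fin n ⊕ Fin n) F}
    {M N : Matrix (Fin n → F) (Fin n → F) ℂ} (hM : M ≠ 0) (hN0 : N ≠ 0) (hN : Inter ψ B N) :
    N * M ≠ 0 := by
  classical
  intro h
  obtain ⟨i, j, hij⟩ : ∃ i j, M i j ≠ 0 := by
    by_contra! hc; exact hM (Matrix.ext hc)
  have hz : N * (∑ v : Fin n ⊕ Fin n → F, op ψ v * (M * Matrix.single j i 1) * op ψ (-v)) = 0 := by
    rw [Finset.mul_sum]
    refine Finset.sum_eq_zero fun v _ => ?_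
    rw [← Matrix.mul_assoc, ← Matrix.mul_assoc, hN, Matrix.mul_assoc (op ψ _) N, ← Matrix.mul_assoc N, h]
    simp
  rw [twirl ψ h2 hψ] at hz
  simp only [Matrix.mul_smul, Matrix.mul_one, smul_eq_zero] at hz
  rcases hz with hz | hz
  · refine mul_ne_zero (pow_ne_zero _ (Nat.cast_ne_zero.2 Fintype.card_ne_zero)) ?_ hz
    simpa [Matrix.trace_mul_single] using hij
  · exact hN0 hz

theorem isUnit_of_inter (h2 : (2 : F) ≠ 0) (hψ : ψ.IsPrimitive)
    {A : Matrix (Fin n ⊕ Fin n) (Fin n ⊕ Fin n) F} (hA : A ∈ Matrix.symplecticGroup (Fin n) F)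
    {M : Matrix (Fin n → F) (Fin n → F) ℂ} (hM0 : M ≠ 0) (hM : Inter ψ A M) : IsUnit M := by
  classical
  let g : Matrix.symplecticGroup (Fin n) F := ⟨A, hA⟩
  obtain ⟨N, hN0, hN⟩ := exists_inter ψ h2 hψ (g⁻¹).2
  have hne := mul_ne_zero_of_inter ψ h2 hψ hM0 hN0 hN
  have hI := Inter.mul ψ hN hM
  rw [show (g⁻¹).1 * A = 1 from congrArg Subtype.val (inv_mul_cancel g)] at hI
  obtain ⟨c, hc⟩ := scalar_of_commute ψ h2 hψ (M := N * M) fun v => by
    have := hI v; rw [one_mulVec] at this; exact this.symm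
  have hc0 : c ≠ 0 := fun e => hne (by rw [hc, e, zero_smul])
  exact IsUnit.of_mul_eq_one_right (c⁻¹ • N) (by rw [Matrix.smul_mul, hc, inv_smul_smul₀ hc0])

theorem inter_unique (h2 : (2 : F) ≠ 0) (hψ : ψ.IsPrimitive)
    {A : Matrix (Fin n ⊕ Fin n) (Fin n ⊕ Fin n) F}
    {M N : Matrix (Fin n → F) (Fin n → F) ℂ} (hMu : IsUnit M) (hM : Inter ψ A M) (hN : Inter ψ A N) :
    ∃ c : ℂ, N = c • M := by
  obtain ⟨u, rfl⟩ := hMu
  obtain ⟨c, hc⟩ := scalar_of_commute ψ h2 hψ (M := (↑u⁻¹ : Matrix _ _ ℂ) * N) fun v => by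
    rw [Matrix.mul_assoc, hN, ← Matrix.mul_assoc, ← Matrix.mul_assoc]
    congr 1
    apply u.isUnit.mul_left_cancel
    rw [← Matrix.mul_assoc, ← Matrix.mul_assoc, hM, Units.mul_inv, Matrix.one_mul, Matrix.mul_assoc, Units.mul_inv, Matrix.mul_one]
  exact ⟨c, by
    calc N = (u : Matrix _ _ ℂ) * ((↑u⁻¹ : Matrix _ _ ℂ) * N) := by rw [← Matrix.mul_assoc, Units.mul_inv, Matrix.one_mul]
    _ = _ := by rw [hc, Matrix.mul_smul, Matrix.mul_one]⟩

end CfsgLib.PLocal.Weil
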