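import Mathlib

/-!
# Congruence orbits of characters of symmetric matrices
-/

set_option autoImplicit false

namespace CfsgLib.PLocal.Weil

open Matrix

variable {F : Type*} [Field F] {n : ℕ}

variable (n F) in
/-- The symmetric matrices. -/
def SymM : Submodule F (Matrix (Fin n) (Fin n) F) where
  carrier := {S | Sᵀ = S}
  zero_mem' := transpose_zero
  add_mem' {S T} hS hT := by
    show (S + T)ᵀ = S + T
    rw [transpose_add, show Sᵀ = S from hS, show Tᵀ = T from hT]
  smul_mem' c S hS := by
    show (c • S)ᵀ = c • S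
    rw [transpose_smul, show Sᵀ = S from hS]

theorem mem_SymM {S : Matrix (Fin n) (Fin n) F} : S ∈ SymM F n ↔ Sᵀ = S := Iff.rfl

/-- The congruence action. -/
def cong (A : Matrix (Fin n) (Fin n) F) : SymM F n →ₗ[F] SymM F n where
  toFun S := ⟨A * S.1 * Aᵀ, by
    rw [mem_SymM, transpose_mul, transpose_mul, transpose_transpose, mem_SymM.1 S.2, Matrix.mul_assoc]⟩
  map_add' S T := Subtype.ext (by simp [Matrix.mul_add, Matrix.add_mul])
  map_smul' c S := Subtype.ext (by simp)

/-- The symmetrised product of two vectors. -/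
def symPair (v w : Fin n → F) : SymM F n :=
  ⟨vecMulVec v w + vecMulVec w v, by
    rw [mem_SymM, transpose_add, transpose_vecMulVec, transpose_vecMulVec, add_comm]⟩

theorem cong_symPair (A : Matrix (Fin n) (Fin n) F) (v w : Fin n → F) :
    cong A (symPair v w) = symPair (A *ᵥ v) (A *ᵥ w) := by
  apply Subtype.ext
  show A * (vecMulVec v w + vecMulVec w v) * Aᵀ = _
  simp [symPair, Matrix.mul_add, Matrix.add_mul, mul_vecMulVec, vecMulVec_mul, ← mulVec_transpose]

theorem exists_unit_mulVec {v w : Fin n → F} (hv : v ≠ 0) (hw : w ≠ 0) :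
    ∃ A : (Matrix (Fin n) (Fin n) F)ˣ, (A : Matrix (Fin n) (Fin n) F) *ᵥ v = w := by
  classical
  obtain ⟨m, hmv, hmw⟩ : ∃ m : Fin n → F, m ⬝ᵥ v ≠ 0 ∧ m ⬝ᵥ w ≠ 0 := by
    obtain ⟨i, hi⟩ := Function.ne_iff.1 hv
    obtain ⟨j, hj⟩ := Function.ne_iff.1 hw
    by_cases h1 : w i ≠ 0
    · exact ⟨Pi.single i 1, by simpa using hi, by simpa using h1⟩
    by_cases h2 : v j ≠ 0
    · exact ⟨Pi.single j 1, by simpa using h2, by simpa using hj⟩
    push Not at h1 h2
    exact ⟨Pi.single i 1 + Pi.single j 1, by simpa [add_dotProduct, h2] using hi,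
      by simpa [add_dotProduct, h1] using hj⟩
  let a := (m ⬝ᵥ v)⁻¹
  let b := (m ⬝ᵥ w)⁻¹
  let A : Matrix (Fin n) (Fin n) F := 1 + a • vecMulVec (w - v) m
  let B : Matrix (Fin n) (Fin n) F := 1 - b • vecMulVec (w - v) m
  have hAB : A * B = 1 := by
    have key : vecMulVec (w - v) m * vecMulVec (w - v) m = (m ⬝ᵥ w - m ⬝ᵥ v) • vecMulVec (w - v) m := by
      rw [vecMulVec_mul_vecMulVec, dotProduct_sub, vecMulVec_smul]
    simp only [A, B, Matrix.add_mul, Matrix.mul_sub, Matrix.one_mul, Matrix.mul_one, Matrix.smul_mul,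
      Matrix.mul_smul, key, smul_smul]
    have : -b + (a - a * (b * (m ⬝ᵥ w - m ⬝ᵥ v))) = 0 := by
      simp only [a, b]; field_simp; ring
    calc _ = 1 + (-b + (a - a * (b * (m ⬝ᵥ w - m ⬝ᵥ v)))) • vecMulVec (w - v) m := by module
      _ = 1 := by rw [this, zero_smul, add_zero]
  refine ⟨⟨A, B, hAB, mul_eq_one_comm.1 hAB⟩, ?_⟩
  show A *ᵥ v = w
  simp only [A, add_mulVec, one_mulVec, smul_mulVec, vecMulVec_mulVec, a]
  rw [op_smul_eq_smul, smul_smul, inv_mul_cancel₀ hmv, one_smul, add_sub_cancel]

/-- A functional on symmetric matrices vanishing on all symmetrised products is zero. -/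
theorem eq_zero_of_symPair (h2 : (2 : F) ≠ 0) (l : SymM F n →ₗ[F] F)
    (h : ∀ v w : Fin n → F, l (symPair v w) = 0) : l = 0 := by
  classical
  refine LinearMap.ext fun S => ?_
  have hS : S = (2 : F)⁻¹ • ∑ i, ∑ j, S.1 i j • symPair (Pi.single i 1) (Pi.single j 1) := by
    apply Subtype.ext
    ext a b
    have hs : S.1 b a = S.1 a b := congrFun (congrFun (mem_SymM.1 S.2) a) b
    simp only [SetLike.val_smul, AddSubmonoidClass.coe_finset_sum, symPair, Matrix.smul_apply,
      Matrix.sum_apply, Matrix.add_apply, vecMulVec_apply, Pi.single_apply, smul_eq_mul, mul_add,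
      Finset.sum_add_distrib]
    simp [hs]
    field_simp
    ring
  rw [hS]
  simp [map_sum, h]

theorem eq_or_neg_of_mul_eq {x y : Fin n → F} (h : ∀ i j, x i * x j = y i * y j) : y = x ∨ y = -x := by
  by_cases h0 : ∃ i, x i ≠ 0
  · obtain ⟨i, hi⟩ := h0
    rcases mul_self_eq_mul_self_iff.1 (h i i).symm with e | e
    · exact .inl (funext fun j => mul_left_cancel₀ hi (by linear_combination -h i j - y j * e))
    · refine .inr (funext fun j => mul_left_cancel₀ hi ?_)
      simp only [Pi.neg_apply]
      linear_combination h i j + y j * e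
  · push Not at h0
    exact .inl (funext fun j => by
      have := h j j
      rw [h0 j, mul_zero] at this
      rw [h0 j, mul_self_eq_zero.1 this.symm])

/-- The congruence orbit of a nonzero functional has at least `(q ^ n - 1) / 2` members. -/
theorem orbit_bound [Fintype F] (h2 : (2 : F) ≠ 0) (l : SymM F n →ₗ[F] F) (hl : l ≠ 0) :
    ∃ s : Finset (SymM F n →ₗ[F] F), (∀ f ∈ s, ∃ A : (Matrix (Fin n) (Fin n) F)ˣ,
        f = l.comp (cong (A : Matrix (Fin n) (Fin n) F))) ∧ Fintype.card F ^ n ≤ 2 * s.card + 1 := by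
  classical
  let β : (Fin n → F) → (Fin n → F) → F := fun v w => l (symPair v w)
  have βadd : ∀ u v w, β u (v + w) = β u v + β u w := fun u v w => by
    simp only [β, ← map_add]; congr 1; apply Subtype.ext
    simp [symPair, vecMulVec_add, add_vecMulVec]; abel
  have βsmul : ∀ (a : F) u w, β u (a • w) = a * β u w := fun a u w => by
    simp only [β, ← smul_eq_mul, ← map_smul]; congr 1; apply Subtype.ext
    simp [symPair, vecMulVec_smul, smul_vecMulVec]
  have βsymm : ∀ u w, β u w = β w u := fun u w => by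
    simp only [β]; congr 1; apply Subtype.ext; simp [symPair, add_comm]
  -- the quadratic form
  let c : (Fin n → F) → F := fun w => β w w / 2
  have βc : ∀ v w, β v w = c (v + w) - c v - c w := fun v w => by
    have : β (v + w) (v + w) = β v v + 2 * β v w + β w w := by
      rw [βadd (v + w) v w, βsymm (v + w) v, βadd v v w, βsymm (v + w) w, βadd w v w, βsymm w v]; ring
    simp only [c, this]; field_simp; ring
  have hc : ∃ v, c v ≠ 0 := by
    by_contra! h
    exact hl (eq_zero_of_symPair h2 l fun v w => by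
      show β v w = 0; rw [βc, h, h, h]; ring)
  have hAl : ∀ (A : Matrix (Fin n) (Fin n) F) v w, l.comp (cong A) (symPair v w) = β (A *ᵥ v) (A *ᵥ w) :=
    fun A v w => by rw [LinearMap.comp_apply, cong_symPair]
  by_cases htwo : ∀ t : F, t ≠ 0 → ∃ v, c v = t
  · by_cases hn : n = 0
    · subst hn
      exact ⟨∅, by simp, by simp⟩
    let i0 : Fin n := ⟨0, by omega⟩
    let e : Fin n → F := Pi.single i0 1
    have he : e ≠ 0 := fun h => one_ne_zero (α := F) (by simpa [e] using congrFun h i0)
    have key : ∀ φ : Fin n → F, φ i0 ≠ 0 → ∃ A : (Matrix (Fin n) (Fin n) F)ˣ,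
        ∀ j, β ((A : Matrix (Fin n) (Fin n) F) *ᵥ e) ((A : Matrix (Fin n) (Fin n) F) *ᵥ Pi.single j 1) = φ j := by
      intro φ hφ
      obtain ⟨v, hv⟩ := htwo (φ i0 / 2) (div_ne_zero hφ h2)
      have hβv : β v v = φ i0 := by
        have := hv
        simp only [c] at this
        field_simp at this
        exact this
      have hv0 : v ≠ 0 := fun h => hφ (by
        rw [← hβv, h]
        simpa using βsmul 0 (0 : Fin n → F) 0)
      obtain ⟨A0, hA0⟩ := exists_unit_mulVec he hv0
      let m : Fin n → F := fun j => (φ j - β v ((A0 : Matrix (Fin n) (Fin n) F) *ᵥ Pi.single j 1)) / φ i0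
      have hm : m ⬝ᵥ e = 0 := by
        have : m i0 = 0 := by
          show (φ i0 - β v ((A0 : Matrix (Fin n) (Fin n) F) *ᵥ e)) / φ i0 = 0
          rw [hA0, hβv, sub_self, zero_div]
        simpa [e] using this
      have key : vecMulVec e m * vecMulVec e m = 0 := by rw [vecMulVec_mul_vecMulVec, hm, zero_smul, vecMulVec_zero]
      let T : (Matrix (Fin n) (Fin n) F)ˣ := ⟨1 + vecMulVec e m, 1 - vecMulVec e m,
        by rw [Matrix.add_mul, Matrix.mul_sub, Matrix.mul_sub, key]; simp,
        by rw [Matrix.sub_mul, Matrix.mul_add, Matrix.mul_add, key]; simp⟩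
      refine ⟨A0 * T, fun j => ?_⟩
      have hTe : ((T : (Matrix (Fin n) (Fin n) F)ˣ) : Matrix (Fin n) (Fin n) F) *ᵥ e = e := by
        show (1 + vecMulVec e m) *ᵥ e = e
        rw [add_mulVec, one_mulVec, vecMulVec_mulVec, hm]; simp
      have hTj : ((T : (Matrix (Fin n) (Fin n) F)ˣ) : Matrix (Fin n) (Fin n) F) *ᵥ Pi.single j 1 =
          Pi.single j 1 + m j • e := by
        show (1 + vecMulVec e m) *ᵥ Pi.single j 1 = _
        rw [add_mulVec, one_mulVec, vecMulVec_mulVec, dotProduct_single, mul_one, op_smul_eq_smul]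
      rw [Units.val_mul, ← mulVec_mulVec, ← mulVec_mulVec, hTe, hTj, mulVec_add, mulVec_smul, hA0, βadd,
        βsmul, hβv]
      simp only [m]; field_simp; ring
    choose A hA using key
    let D := Finset.univ.filter fun φ : Fin n → F => φ i0 ≠ 0
    let f : {φ // φ ∈ D} → (SymM F n →ₗ[F] F) := fun φ =>
      l.comp (cong (A φ.1 (Finset.mem_filter.1 φ.2).2 : Matrix (Fin n) (Fin n) F))
    have hinj : Function.Injective f := fun φ φ' h => Subtype.ext (funext fun j => by
      have h1 := congrArg (fun g : SymM F n →ₗ[F] F => g (symPair e (Pi.single j 1))) h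
      simp only [f, hAl, hA] at h1
      exact h1)
    refine ⟨Finset.univ.image f, fun g hg => ?_, ?_⟩
    · obtain ⟨φ, -, rfl⟩ := Finset.mem_image.1 hg
      exact ⟨_, rfl⟩
    rw [Finset.card_image_of_injective _ hinj, Finset.card_univ, Fintype.card_coe]
    have hle : (Finset.univ.filter fun φ : Fin n → F => φ i0 = 0).card * 2 ≤ Fintype.card F ^ n := by
      have hinj2 : ∀ φ ∈ (Finset.univ.filter fun φ : Fin n → F => φ i0 = 0), φ + e ∈ D := fun φ hφ => by
        simp [D, e, (Finset.mem_filter.1 hφ).2]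
      have h1 := Finset.card_le_card_of_injOn (fun φ => φ + e) hinj2 (fun a _ b _ h => add_right_cancel h)
      have h3 : (Finset.univ.filter fun φ : Fin n → F => φ i0 = 0).card + D.card = Fintype.card F ^ n := by
        rw [Finset.card_filter_add_card_filter_not, Finset.card_univ, Fintype.card_fun, Fintype.card_fin]
      omega
    have h3 : (Finset.univ.filter fun φ : Fin n → F => φ i0 = 0).card + D.card = Fintype.card F ^ n := by
      rw [Finset.card_filter_add_card_filter_not, Finset.card_univ, Fintype.card_fun, Fintype.card_fin]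
    omega
  · push Not at htwo
    obtain ⟨t, ht0, ht⟩ := htwo
    obtain ⟨v, hv⟩ := hc
    let L : Fin n → F := fun j => β v (Pi.single j 1) / (2 * c v)
    have hβL : ∀ w, β v w = 2 * c v * (L ⬝ᵥ w) := by
      intro w
      let b : (Fin n → F) →ₗ[F] F :=
        { toFun := β v, map_add' := βadd v, map_smul' := fun a w => by rw [βsmul]; rfl }
      have := LinearMap.pi_apply_eq_sum_univ b w
      show b w = _
      rw [this, dotProduct, Finset.mul_sum]
      refine Finset.sum_congr rfl fun j _ => ?_
      rw [show (fun k => if j = k then (1 : F) else 0) = Pi.single j 1 from funext fun k => by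
        simp [Pi.single_apply, eq_comm]]
      show w j • β v (Pi.single j 1) = _
      simp only [L, smul_eq_mul]
      field_simp
    have hLv : L ⬝ᵥ v = 1 := by
      have h := hβL v
      rw [show β v v = 2 * c v by simp only [c]; field_simp] at h
      exact (mul_eq_left₀ (mul_ne_zero h2 hv)).1 h.symm
    have hcsmul : ∀ (a : F) w, c (a • w) = a ^ 2 * c w := fun a w => by
      simp only [c]; rw [βsmul, βsymm, βsmul]; ring
    have hcw : ∀ w, c w = c v * (L ⬝ᵥ w) ^ 2 := by
      intro w
      set w' := w - (L ⬝ᵥ w) • v with hw'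
      have hz : β v w' = 0 := by
        rw [hβL, hw', dotProduct_sub, dotProduct_smul, hLv, smul_eq_mul, mul_one, sub_self, mul_zero]
      have hab : ∀ a b : F, c (a • v + b • w') = a ^ 2 * c v + b ^ 2 * c w' := by
        intro a b
        have h := βc (a • v) (b • w')
        rw [βsmul, βsymm, βsmul, βsymm, hz, mul_zero, mul_zero, hcsmul, hcsmul] at h
        linear_combination -h
      have hd : c w' = 0 := by
        by_contra hd
        open Polynomial in
        obtain ⟨a, b, hab'⟩ := FiniteField.exists_root_sum_quadratic (R := F)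
          (f := C (c v) * X ^ 2) (g := C (c w') * X ^ 2 - C t)
          (degree_C_mul_X_pow 2 hv) (by
            rw [degree_sub_C (by rw [degree_C_mul_X_pow 2 hd]; norm_num), degree_C_mul_X_pow 2 hd]; rfl)
          (FiniteField.odd_card_of_char_ne_two fun h => h2 (by
              have := ringChar.Nat.cast_ringChar (R := F); rw [h] at this; exact_mod_cast this))
        refine ht (a • v + b • w') ?_
        simp only [Polynomial.eval_mul, Polynomial.eval_C, Polynomial.eval_pow, Polynomial.eval_X,
          Polynomial.eval_sub] at hab'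
        rw [hab]; linear_combination hab'
      have := hab (L ⬝ᵥ w) 1
      rw [one_smul, hw', add_sub_cancel, ← hw', hd] at this
      rw [this]; ring
    have hL0 : L ≠ 0 := fun h => one_ne_zero (α := F) (by rw [← hLv, h, zero_dotProduct])
    have key : ∀ μ : Fin n → F, μ ≠ 0 → ∃ A : (Matrix (Fin n) (Fin n) F)ˣ,
        ∀ w, L ⬝ᵥ ((A : Matrix (Fin n) (Fin n) F) *ᵥ w) = μ ⬝ᵥ w := by
      intro μ hμ
      obtain ⟨A, hA⟩ := exists_unit_mulVec hL0 hμ
      let At : (Matrix (Fin n) (Fin n) F)ˣ := ⟨(A : Matrix (Fin n) (Fin n) F)ᵀ, (A⁻¹ : (Matrix (Fin n) (Fin n) F)ˣ).1ᵀ,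
        by rw [← transpose_mul, Units.inv_mul, transpose_one], by rw [← transpose_mul, Units.mul_inv, transpose_one]⟩
      exact ⟨At, fun w => by
        show L ⬝ᵥ ((A : Matrix (Fin n) (Fin n) F)ᵀ *ᵥ w) = _
        rw [dotProduct_mulVec, vecMul_transpose, hA]⟩
    choose A hA using key
    let D := Finset.univ.filter fun μ : Fin n → F => μ ≠ 0
    let f : {μ // μ ∈ D} → (SymM F n →ₗ[F] F) := fun μ =>
      l.comp (cong (A μ.1 (Finset.mem_filter.1 μ.2).2 : Matrix (Fin n) (Fin n) F))
    have hfib : ∀ μ μ' : {μ // μ ∈ D}, f μ = f μ' → μ'.1 = μ.1 ∨ μ'.1 = -μ.1 := by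
      intro μ μ' h
      refine eq_or_neg_of_mul_eq fun i j => ?_
      have h1 := congrArg (fun g : SymM F n →ₗ[F] F => g (symPair (Pi.single i 1) (Pi.single j 1))) h
      simp only [f, hAl] at h1
      rw [βc, βc] at h1
      generalize hc0 : c v = c0 at hcw hv
      simp only [hcw, dotProduct_add, hA, dotProduct_single, mul_one] at h1
      exact mul_left_cancel₀ (mul_ne_zero hv h2) (by linear_combination h1)
    refine ⟨Finset.univ.image f, fun g hg => ?_, ?_⟩
    · obtain ⟨μ, -, rfl⟩ := Finset.mem_image.1 hg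
      exact ⟨_, rfl⟩
    have h1 := Finset.card_le_mul_card_image (f := f) Finset.univ 2 fun g hg => by
      obtain ⟨μ, -, rfl⟩ := Finset.mem_image.1 hg
      have hneg : -μ.1 ∈ D := Finset.mem_filter.2 ⟨Finset.mem_univ _, neg_ne_zero.2 (Finset.mem_filter.1 μ.2).2⟩
      refine (Finset.card_le_card fun x hx => ?_).trans (Finset.card_le_two (a := μ) (b := ⟨-μ.1, hneg⟩))
      rcases hfib μ x (Finset.mem_filter.1 hx).2.symm with e | e
      · simp [Subtype.ext e]
      · simp [show x = ⟨-μ.1, hneg⟩ from Subtype.ext e]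
    rw [Finset.card_univ, Fintype.card_coe] at h1
    have h3 : D.card + 1 = Fintype.card F ^ n := by
      rw [show D = Finset.univ.erase (0 : Fin n → F) by ext; simp [D], Finset.card_erase_add_one (Finset.mem_univ _),
        Finset.card_univ, Fintype.card_fun, Fintype.card_fin]
    omega

end CfsgLib.PLocal.Weil
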