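import Cfsg.Agent.Lib.Classical.Symplectic.MatrixTransvection
import Cfsg.Agent.Lib.PLocal.Weil.Orbit
import Mathlib.NumberTheory.LegendreSymbol.AddCharacter
import Mathlib.NumberTheory.LegendreSymbol.Complex
import Mathlib.Analysis.Fourier.FiniteAbelian.PontryaginDuality

/-!
# The least degree of a nontrivial representation of a symplectic group

The Siegel unipotent subgroup has a nontrivial eigencharacter, and the Levi subgroup moves it
around an orbit of at least `(q ^ n - 1) / 2` characters.
-/

set_option autoImplicit false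

namespace CfsgLib.PLocal.Weil

open Matrix
open scoped Pointwise commutatorElement

variable {F : Type*} [Field F] {n : ℕ}

/-- The lower unipotent element of a symmetric matrix. -/
def low (S : SymM F n) : Matrix.symplecticGroup (Fin n) F :=
  ⟨fromBlocks 1 0 S.1 1, by
    rw [SymplecticGroup.mem_iff', Matrix.J]
    simp [fromBlocks_transpose, fromBlocks_multiply, mem_SymM.1 S.2]⟩

theorem low_add (S T : SymM F n) : low (S + T) = low S * low T :=
  Subtype.ext (by simp [low, fromBlocks_multiply])

theorem low_zero : low (0 : SymM F n) = 1 :=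
  Subtype.ext (by simp [low, fromBlocks_one])

/-- The Levi element of an invertible matrix. -/
def lev (A : (Matrix (Fin n) (Fin n) F)ˣ) : Matrix.symplecticGroup (Fin n) F :=
  ⟨fromBlocks (A : Matrix (Fin n) (Fin n) F) 0 0 ((A⁻¹ : (Matrix (Fin n) (Fin n) F)ˣ) : Matrix (Fin n) (Fin n) F)ᵀ, by
    rw [SymplecticGroup.mem_iff', Matrix.J]
    simp only [fromBlocks_transpose, fromBlocks_multiply, transpose_transpose, transpose_zero, Matrix.mul_zero,
      Matrix.zero_mul, add_zero, zero_add, Matrix.mul_one, Matrix.mul_neg, Matrix.neg_mul]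
    simp [← transpose_mul, ← Matrix.coe_units_inv]⟩

theorem low_mul_lev (A B : (Matrix (Fin n) (Fin n) F)ˣ) (hB : (B : Matrix (Fin n) (Fin n) F) = (A : Matrix (Fin n) (Fin n) F)ᵀ)
    (S : SymM F n) : low S * lev B = lev B * low (cong (A : Matrix (Fin n) (Fin n) F) S) := by
  apply Subtype.ext
  simp only [low, lev, cong, LinearMap.coe_mk, AddHom.coe_mk, Submonoid.coe_mul, fromBlocks_multiply,
    Matrix.mul_zero, Matrix.zero_mul, add_zero, zero_add, Matrix.mul_one, Matrix.one_mul]
  congr 1
  rw [show (A : Matrix (Fin n) (Fin n) F) = (B : Matrix (Fin n) (Fin n) F)ᵀ by rw [hB, transpose_transpose],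
    transpose_transpose, ← Matrix.mul_assoc, ← Matrix.mul_assoc, ← transpose_mul, Units.mul_inv, transpose_one,
    Matrix.one_mul]

variable [Fintype F] {V : Type*} [AddCommGroup V] [Module ℂ V]

theorem exists_mulShift (ψ : AddChar F ℂ) (hψ : ψ.IsPrimitive) (χ : AddChar F ℂ) :
    ∃ r : F, ψ.mulShift r = χ := by
  classical
  exact ((Fintype.bijective_iff_injective_and_card _).2
    ⟨AddChar.to_mulShift_inj_of_isPrimitive hψ, AddChar.card_eq.symm⟩).2 χ

/-- A character of symmetric matrices is a shift of a linear functional. -/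
theorem exists_functional (ψ : AddChar F ℂ) (hψ : ψ.IsPrimitive) (χ : AddChar (SymM F n) ℂ) :
    ∃ l : SymM F n →ₗ[F] F, ∀ S, χ S = ψ (l S) := by
  have h : ∀ S : SymM F n, ∃ r : F, ∀ t : F, χ (t • S) = ψ (r * t) := fun S => by
    obtain ⟨r, hr⟩ := exists_mulShift ψ hψ
      (χ.compAddMonoidHom (AddMonoidHom.mk' (fun t : F => t • S) fun a b => add_smul a b S))
    exact ⟨r, fun t => (DFunLike.congr_fun hr t).symm⟩
  choose r hr using h
  have uniq : ∀ a b : F, (∀ t, ψ (a * t) = ψ (b * t)) → a = b := fun a b hab =>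
    AddChar.to_mulShift_inj_of_isPrimitive hψ (DFunLike.ext (ψ.mulShift a) (ψ.mulShift b) hab)
  refine ⟨{ toFun := r, map_add' := fun S T => uniq _ _ fun t => ?_, map_smul' := fun a S => uniq _ _ fun t => ?_ },
    fun S => ?_⟩
  · rw [add_mul, AddChar.map_add_eq_mul, ← hr, ← hr, ← hr, smul_add, AddChar.map_add_eq_mul]
  · rw [← hr, RingHom.id_apply, smul_eq_mul, smul_smul, show a * r S * t = r S * (t * a) by ring, ← hr]
  · have := hr S 1
    rwa [one_smul, mul_one] at this

/-- The representation of the symplectic group restricted to the Siegel subgroup. -/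
noncomputable def tOp (ρ : Representation ℂ (Matrix.symplecticGroup (Fin n) F) V) (S : SymM F n) : Module.End ℂ V :=
  ρ (low S)

theorem tOp_add (ρ : Representation ℂ (Matrix.symplecticGroup (Fin n) F) V) (S T : SymM F n) :
    tOp ρ (S + T) = tOp ρ S * tOp ρ T := by rw [tOp, low_add, map_mul]; rfl

theorem exists_eigen [DecidableEq F] (ρ : Representation ℂ (Matrix.symplecticGroup (Fin n) F) V)
    (hne : ∃ S, tOp ρ S ≠ 1) :
    ∃ (χ : AddChar (SymM F n) ℂ) (v : V), χ ≠ 0 ∧ v ≠ 0 ∧ ∀ S, tOp ρ S v = χ S • v := by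
  classical
  have := Fintype.ofFinite (SymM F n)
  let e : AddChar (SymM F n) ℂ → Module.End ℂ V := fun χ => ∑ S, χ (-S) • tOp ρ S
  have he : ∀ χ S, tOp ρ S * e χ = χ S • e χ := fun χ S => by
    simp only [e, Finset.mul_sum, Finset.smul_sum, mul_smul_comm, smul_smul, ← tOp_add]
    refine Fintype.sum_equiv (Equiv.addLeft S) _ _ fun T => ?_
    rw [← AddChar.map_add_eq_mul]
    simp [Equiv.coe_addLeft]
  by_cases h : ∃ χ, χ ≠ 0 ∧ e χ ≠ 0
  · obtain ⟨χ, hχ, hχe⟩ := h
    obtain ⟨w, hw⟩ : ∃ w, e χ w ≠ 0 := by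
      by_contra! h'; exact hχe (LinearMap.ext h')
    exact ⟨χ, e χ w, hχ, hw, fun S => LinearMap.congr_fun (he χ S) w⟩
  · push Not at h
    exfalso
    obtain ⟨S, hS⟩ := hne
    refine hS ?_
    have hsum : ∑ χ, e χ = (Fintype.card (SymM F n) : ℂ) • (1 : Module.End ℂ V) := by
      simp only [e]
      rw [Finset.sum_comm, Finset.sum_eq_single (0 : SymM F n)]
      rotate_left
      · intro T _ hT
        rw [← Finset.sum_smul, AddChar.sum_apply_eq_ite, if_neg (neg_ne_zero.2 hT), zero_smul]
      · simp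
      rw [← Finset.sum_smul, AddChar.sum_apply_eq_ite, neg_zero, if_pos rfl, tOp, low_zero, map_one]
    rw [Finset.sum_eq_single 0 (fun χ _ hχ => h χ hχ) (by simp)] at hsum
    have h1 := he 0 S
    rw [hsum, AddChar.zero_apply, one_smul, mul_smul_comm, mul_one] at h1
    exact smul_right_injective _ (Nat.cast_ne_zero.2 Fintype.card_ne_zero) h1

theorem linearIndependent_eigen [DecidableEq F] (ρ : Representation ℂ (Matrix.symplecticGroup (Fin n) F) V)
    {ι : Type*} [Fintype ι] (χ : ι → AddChar (SymM F n) ℂ) (hχ : Function.Injective χ) (v : ι → V)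
    (hv : ∀ i, v i ≠ 0) (h : ∀ i S, tOp ρ S (v i) = χ i S • v i) : LinearIndependent ℂ v := by
  classical
  have := Fintype.ofFinite (SymM F n)
  refine Fintype.linearIndependent_iff.2 fun a ha j => ?_
  let E : Module.End ℂ V := ∑ S, χ j (-S) • tOp ρ S
  have hE : ∀ i, E (v i) = (if i = j then (Fintype.card (SymM F n) : ℂ) else 0) • v i := fun i => by
    simp only [E, LinearMap.sum_apply, LinearMap.smul_apply, h, smul_smul, ← Finset.sum_smul]
    congr 1
    split_ifs with hij
    · subst hij
      simp [← AddChar.map_add_eq_mul]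
    · have hne : χ i - χ j ≠ 0 := sub_ne_zero.2 fun e => hij (hχ e)
      have hs := AddChar.sum_eq_ite (χ i - χ j)
      rw [if_neg hne] at hs
      rw [← hs]
      refine Finset.sum_congr rfl fun S _ => ?_
      rw [AddChar.sub_apply', AddChar.map_neg_eq_inv, div_eq_mul_inv, mul_comm]
  have h1 := congrArg E ha
  simp only [map_sum, map_smul, hE, map_zero, ite_smul, zero_smul, smul_ite, smul_zero, Finset.sum_ite_eq',
    Finset.mem_univ, if_true, smul_smul] at h1
  exact (mul_eq_zero.1 ((smul_eq_zero.1 h1).resolve_right (hv j))).resolve_right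
    (Nat.cast_ne_zero.2 Fintype.card_ne_zero)

theorem low_one_not_mem_center (hn : 1 ≤ n) :
    low (⟨1, transpose_one⟩ : SymM F n) ∉ Subgroup.center (Matrix.symplecticGroup (Fin n) F) := by
  intro h
  have h1 := congrArg Subtype.val (Subgroup.mem_center_iff.1 h ⟨Matrix.J (Fin n) F, SymplecticGroup.J_mem (Fin n) F⟩)
  have : NeZero n := ⟨by omega⟩
  simp only [low, Submonoid.coe_mul, Matrix.J, fromBlocks_multiply] at h1
  have h2 := congrFun (congrFun (fromBlocks_inj.1 h1).1 0) 0
  simp at h2

/-- Every nontrivial complex representation has degree at least `(q ^ n - 1) / 2`. -/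
theorem degree_bound [DecidableEq F] (hn : 2 ≤ n) (h2 : (2 : F) ≠ 0) [FiniteDimensional ℂ V]
    (ρ : Representation ℂ (Matrix.symplecticGroup (Fin n) F) V) (hρ : ρ ≠ 1) :
    Fintype.card F ^ n ≤ 2 * Module.finrank ℂ V + 1 := by
  classical
  have hne : ∃ S, tOp ρ S ≠ 1 := by
    by_contra! h
    refine hρ (MonoidHom.ext fun g => ?_)
    let N : Subgroup (Matrix.symplecticGroup (Fin n) F) := ρ.ker
    have := Classical.Symp.isSimpleGroup_psp (F := F) (m := n) (by omega) (Or.inl ⟨hn, h2⟩)
    have hN : (N.map (QuotientGroup.mk' (Subgroup.center (Matrix.symplecticGroup (Fin n) F)))).Normal :=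
      Subgroup.Normal.map inferInstance _ (QuotientGroup.mk'_surjective _)
    have htop : N.map (QuotientGroup.mk' (Subgroup.center (Matrix.symplecticGroup (Fin n) F))) = ⊤ := by
      refine hN.eq_bot_or_eq_top.resolve_left fun hb => low_one_not_mem_center (F := F) (n := n) (by omega) ?_
      have hm : low (⟨1, transpose_one⟩ : SymM F n) ∈ N := MonoidHom.mem_ker.2 (h _)
      have := Subgroup.mem_map_of_mem (QuotientGroup.mk' (Subgroup.center (Matrix.symplecticGroup (Fin n) F))) hm
      rw [hb, Subgroup.mem_bot, QuotientGroup.mk'_apply, QuotientGroup.eq_one_iff] at this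
      exact this
    have hsup : N ⊔ Subgroup.center (Matrix.symplecticGroup (Fin n) F) = ⊤ := by
      have := congrArg (Subgroup.comap (QuotientGroup.mk' (Subgroup.center (Matrix.symplecticGroup (Fin n) F)))) htop
      rwa [Subgroup.comap_map_eq, QuotientGroup.ker_mk', Subgroup.comap_top] at this
    have hg : g ∈ N := by
      have hsplit : ∀ a, ∃ x ∈ N, ∃ z ∈ Subgroup.center (Matrix.symplecticGroup (Fin n) F), x * z = a := fun a =>
        Set.mem_mul.1 (show a ∈ (N : Set (Matrix.symplecticGroup (Fin n) F)) * (Subgroup.center (Matrix.symplecticGroup (Fin n) F) : Set (Matrix.symplecticGroup (Fin n) F)) by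
          rw [← Subgroup.mul_normal, hsup]; trivial)
      have hc : commutator (Matrix.symplecticGroup (Fin n) F) ≤ N := by
        rw [commutator_def, Subgroup.commutator_le]
        intro a _ b _
        obtain ⟨x, hx, z, hz, rfl⟩ := hsplit a
        obtain ⟨y, hy, w, hw, rfl⟩ := hsplit b
        have ex : ρ (x * z) = ρ z := by rw [map_mul, MonoidHom.mem_ker.1 hx, one_mul]
        have ey : ρ (y * w) = ρ w := by rw [map_mul, MonoidHom.mem_ker.1 hy, one_mul]
        refine MonoidHom.mem_ker.2 ?_
        rw [commutatorElement_def, mul_assoc (x * z * (y * w)), ← _root_.mul_inv_rev, map_mul, map_mul, ex, ey,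
          ← map_mul, Subgroup.mem_center_iff.1 hw z, map_mul, ← ey, ← ex, ← map_mul, ← map_mul,
          mul_inv_cancel, map_one]
      exact hc (by rw [Classical.Symp.commutator_symplecticGroup_eq_top (Or.inl ⟨hn, h2⟩)]; trivial)
    exact MonoidHom.mem_ker.1 hg
  obtain ⟨χ, v, hχ, hv, hχv⟩ := exists_eigen ρ hne
  let ψ := AddChar.FiniteField.primitiveChar_to_Complex F
  have hψ : ψ.IsPrimitive := AddChar.FiniteField.primitiveChar_to_Complex_isPrimitive F
  obtain ⟨l, hl⟩ := exists_functional ψ hψ χ
  have hl0 : l ≠ 0 := fun e => hχ (DFunLike.ext _ _ fun S => by simp [hl, e])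
  obtain ⟨s, hs, hcard⟩ := orbit_bound h2 l hl0
  choose A hA using hs
  let χs : {f // f ∈ s} → AddChar (SymM F n) ℂ := fun f => ψ.compAddMonoidHom f.1.toAddMonoidHom
  have hinj : Function.Injective χs := fun f f' h => Subtype.ext (LinearMap.ext fun S => by
    have key : ∀ t : F, ψ (f.1 S * t) = ψ (f'.1 S * t) := fun t => by
      have := DFunLike.congr_fun h (t • S)
      simpa [χs, mul_comm] using this
    exact AddChar.to_mulShift_inj_of_isPrimitive hψ (DFunLike.ext (ψ.mulShift (f.1 S)) (ψ.mulShift (f'.1 S)) key))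
  let B : {f // f ∈ s} → (Matrix (Fin n) (Fin n) F)ˣ := fun f =>
    ⟨(A f.1 f.2 : Matrix (Fin n) (Fin n) F)ᵀ, ((A f.1 f.2)⁻¹ : (Matrix (Fin n) (Fin n) F)ˣ).1ᵀ,
      by rw [← transpose_mul, Units.inv_mul, transpose_one], by rw [← transpose_mul, Units.mul_inv, transpose_one]⟩
  have hli := linearIndependent_eigen ρ χs hinj (fun f => ρ (lev (B f)) v)
    (fun f h => hv (by
      have := congrArg (ρ (lev (B f))⁻¹) h
      rwa [← Module.End.mul_apply, ← map_mul, inv_mul_cancel, map_one, map_zero, Module.End.one_apply] at this))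
    (fun f S => by
      show ρ (low S) (ρ (lev (B f)) v) = _
      rw [← Module.End.mul_apply, ← map_mul, low_mul_lev (A f.1 f.2) (B f) rfl, map_mul, Module.End.mul_apply,
        show ρ (low (cong (A f.1 f.2 : Matrix (Fin n) (Fin n) F) S)) v = χ (cong (A f.1 f.2 : Matrix (Fin n) (Fin n) F) S) • v
          from hχv _, map_smul, hl]
      congr 1
      exact congrArg ψ (LinearMap.congr_fun (hA f.1 f.2) S).symm)
  have h3 := hli.fintype_card_le_finrank
  rw [Fintype.card_coe] at h3
  omega

end CfsgLib.PLocal.Weil
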