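import Cfsg.Agent.Lib.PLocal.Weil.Rep
import Cfsg.Agent.Lib.PLocal.Weil.Degree

/-!
# The smallest faithful degree of `Sp(2n, q)`, `q` odd

The Weil representation on the odd functions has degree `(q ^ n - 1) / 2`; it has no fixed
vector, so by the degree bound it is irreducible.
-/

set_option autoImplicit false

namespace CfsgLib.PLocal.Weil

open Matrix

variable {F : Type*} [Field F] [Fintype F] [DecidableEq F] {n : ℕ} (ψ : AddChar F ℂ)

theorem px_low (S : SymM F n) (v : Fin n ⊕ Fin n → F) :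
    px ((low S).1 *ᵥ v) = px v ∧ py ((low S).1 *ᵥ v) = S.1 *ᵥ px v + py v := by
  constructor <;> funext i <;> simp [low, px, py, fromBlocks_mulVec, Function.comp_def] <;> rfl

theorem px_lev (A : (Matrix (Fin n) (Fin n) F)ˣ) (v : Fin n ⊕ Fin n → F) :
    px ((lev A).1 *ᵥ v) = (A : Matrix (Fin n) (Fin n) F) *ᵥ px v ∧
      py ((lev A).1 *ᵥ v) = ((A⁻¹ : (Matrix (Fin n) (Fin n) F)ˣ) : Matrix (Fin n) (Fin n) F)ᵀ *ᵥ py v := by
  constructor <;> funext i <;> simp [lev, px, py, fromBlocks_mulVec, Function.comp_def] <;> rfl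

/-- The intertwiner of a lower unipotent element. -/
noncomputable def lowM (S : SymM F n) : Matrix (Fin n → F) (Fin n → F) ℂ :=
  Matrix.diagonal fun x => ψ (-(2⁻¹ * (x ⬝ᵥ S.1 *ᵥ x)))

theorem inter_low (h2 : (2 : F) ≠ 0) (S : SymM F n) : Inter ψ (low S).1 (lowM ψ S) := by
  intro v
  obtain ⟨hx, hy⟩ := px_low S v
  ext x y
  rw [lowM, Matrix.diagonal_mul, Matrix.mul_diagonal]
  simp only [op, hx, hy]
  by_cases h : y = x + px v
  · subst h
    simp only [if_true, ← AddChar.map_add_eq_mul]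
    refine congrArg ψ ?_
    have hsym : ∀ a b : Fin n → F, a ⬝ᵥ S.1 *ᵥ b = b ⬝ᵥ S.1 *ᵥ a := fun a b => by
      rw [dotProduct_mulVec, dotProduct_comm, ← mulVec_transpose, mem_SymM.1 S.2]
    simp only [mulVec_add, dotProduct_add, add_dotProduct]
    rw [dotProduct_comm (S.1 *ᵥ px v) x, hsym (px v) x]
    linear_combination (x ⬝ᵥ S.1 *ᵥ px v) * inv_mul_cancel₀ h2
  · simp [h]

/-- The intertwiner of a Levi element. -/
noncomputable def levM (A : (Matrix (Fin n) (Fin n) F)ˣ) : Matrix (Fin n → F) (Fin n → F) ℂ :=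
  fun x y => if y = ((A⁻¹ : (Matrix (Fin n) (Fin n) F)ˣ) : Matrix (Fin n) (Fin n) F) *ᵥ x then 1 else 0

theorem inter_lev (A : (Matrix (Fin n) (Fin n) F)ˣ) : Inter ψ (lev A).1 (levM A) := by
  intro v
  obtain ⟨hx, hy⟩ := px_lev A v
  ext x z
  set B : Matrix (Fin n) (Fin n) F := ((A⁻¹ : (Matrix (Fin n) (Fin n) F)ˣ) : Matrix (Fin n) (Fin n) F) with hB
  rw [Matrix.mul_apply, Matrix.mul_apply, Finset.sum_eq_single (B *ᵥ x),
    Finset.sum_eq_single (x + (A : Matrix (Fin n) (Fin n) F) *ᵥ px v)]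
  rotate_left
  · intro y _ hy'; simp [op, hx, hy']
  · simp
  · intro y _ hy'; simp [levM, ← hB, hy']
  · simp
  have e1 : B *ᵥ (x + (A : Matrix (Fin n) (Fin n) F) *ᵥ px v) = B *ᵥ x + px v := by
    rw [mulVec_add, mulVec_mulVec, hB, Units.inv_mul, one_mulVec]
  simp only [levM, op, hx, hy, ← hB, e1, if_true, one_mul, mul_ite, mul_one, mul_zero]
  by_cases hz : z = B *ᵥ x + px v
  · simp only [hz, if_true]
    refine congrArg ψ ?_
    have e2 : ∀ a b : Fin n → F, (Bᵀ *ᵥ b) ⬝ᵥ a = b ⬝ᵥ B *ᵥ a := fun a b => by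
      rw [mulVec_transpose, ← dotProduct_mulVec]
    rw [e2, dotProduct_comm ((A : Matrix (Fin n) (Fin n) F) *ᵥ px v) (Bᵀ *ᵥ py v), e2, mulVec_mulVec, hB,
      Units.inv_mul, one_mulVec, dotProduct_comm (py v) (px v)]
  · simp [hz]

theorem lowM_ne_zero (S : SymM F n) : lowM ψ S ≠ 0 := fun h => by
  have := congrFun (congrFun h 0) 0
  simp [lowM] at this

theorem levM_ne_zero (A : (Matrix (Fin n) (Fin n) F)ˣ) : levM A ≠ 0 := fun h => by
  have := congrFun (congrFun h 0) 0
  simp [levM] at this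

/-- No odd function is fixed by the Weil representation. -/
theorem no_fixed (hn : 2 ≤ n) (h2 : (2 : F) ≠ 0) (hψ : ψ.IsPrimitive) (f : Vp n F (-1 : ℂ))
    (hf : ∀ g, oddRep ψ h2 hψ g f = f) : f = 0 := by
  by_contra hne
  obtain ⟨x0, hx0⟩ : ∃ x, f.1 x ≠ 0 := by
    by_contra! h; exact hne (Subtype.ext (funext h))
  have hodd : ∀ x, f.1 (-x) = -f.1 x := fun x => by
    have := congrFun ((mem_Vp _ _).1 f.2) x
    rw [par_mulVec] at this
    simpa using this
  have hx00 : x0 ≠ 0 := fun h => hx0 (by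
    have := hodd 0
    rw [neg_zero, eq_neg_iff_add_eq_zero, ← two_mul, mul_eq_zero] at this
    rw [h]; exact this.resolve_left two_ne_zero)
  have key : ∀ g, (weil ψ h2 hψ g).1 *ᵥ f.1 = f.1 := fun g => congrArg Subtype.val (hf g)
  have hsupp : ∀ x, f.1 x ≠ 0 → x = x0 ∨ x = -x0 := by
    intro x hx
    refine eq_or_neg_of_mul_eq fun i j => ?_
    let S : SymM F n := symPair (Pi.single i 1) (Pi.single j 1)
    have hS : ∀ z : Fin n → F, z ⬝ᵥ S.1 *ᵥ z = 2 * (z i * z j) := fun z => by
      show z ⬝ᵥ (vecMulVec (Pi.single i 1) (Pi.single j 1) + vecMulVec (Pi.single j 1) (Pi.single i 1)) *ᵥ z = _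
      rw [add_mulVec, vecMulVec_mulVec, vecMulVec_mulVec, dotProduct_add, single_one_dotProduct,
        single_one_dotProduct, op_smul_eq_smul, op_smul_eq_smul, dotProduct_smul, dotProduct_smul,
        dotProduct_single_one, dotProduct_single_one, smul_eq_mul, smul_eq_mul]
      ring
    have ht : ∀ t : F, ψ (-(t * (x0 i * x0 j))) = ψ (-(t * (x i * x j))) := by
      intro t
      obtain ⟨c, -, hc⟩ := weil_prop ψ h2 hψ (low (t • S)) (inter_low ψ h2 (t • S)) (lowM_ne_zero ψ _)
      have h := key (low (t • S))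
      rw [hc, smul_mulVec] at h
      have hz : ∀ z, f.1 z ≠ 0 → c * ψ (-(t * (z i * z j))) = 1 := fun z hz => by
        have h1 := congrFun h z
        rw [Pi.smul_apply, lowM, mulVec_diagonal, SetLike.val_smul, smul_mulVec, dotProduct_smul, hS,
          smul_eq_mul, smul_eq_mul] at h1
        rw [show t * (z i * z j) = 2⁻¹ * (t * (2 * (z i * z j))) by field_simp]
        exact mul_right_cancel₀ hz (by rw [one_mul, mul_assoc]; exact h1)
      have h1 := hz x0 hx0
      have h3 := hz x hx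
      exact mul_left_cancel₀ (left_ne_zero_of_mul (h1.trans_ne one_ne_zero)) (h1.trans h3.symm)
    have := AddChar.to_mulShift_inj_of_isPrimitive hψ
      (DFunLike.ext (ψ.mulShift (-(x0 i * x0 j))) (ψ.mulShift (-(x i * x j))) fun t => by
        simpa [neg_mul, mul_comm] using ht t)
    exact neg_inj.1 this
  obtain ⟨y, hy⟩ : ∃ y : Fin n → F, y ∉ ({0, x0, -x0} : Finset (Fin n → F)) := by
    by_contra! h
    have h9 : 3 < Fintype.card (Fin n → F) := by
      rw [Fintype.card_fun, Fintype.card_fin]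
      calc 3 < 2 ^ 2 := by norm_num
        _ ≤ Fintype.card F ^ 2 := Nat.pow_le_pow_left Fintype.one_lt_card 2
        _ ≤ _ := Nat.pow_le_pow_right Fintype.card_pos hn
    have := Finset.card_le_card (s := Finset.univ) (t := ({0, x0, -x0} : Finset (Fin n → F))) fun z _ => h z
    rw [Finset.card_univ] at this
    exact absurd (this.trans Finset.card_le_three) (not_le.2 h9)
  simp only [Finset.mem_insert, Finset.mem_singleton, not_or] at hy
  obtain ⟨A, hA⟩ := exists_unit_mulVec hx00 hy.1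
  obtain ⟨c, hc0, hc⟩ := weil_prop ψ h2 hψ (lev A⁻¹) (inter_lev ψ A⁻¹) (levM_ne_zero _)
  have h := congrFun (key (lev A⁻¹)) x0
  rw [hc, smul_mulVec, Pi.smul_apply] at h
  have h1 : (levM A⁻¹ *ᵥ f.1) x0 = f.1 y := by
    simp [Matrix.mulVec, dotProduct, levM, ← hA]
  rw [h1] at h
  rcases hsupp y (fun e => hx0 (by rw [← h, e, smul_zero])) with e | e
  exacts [hy.2.1 e, hy.2.2 e]

theorem two_mul_finrank (h2 : (2 : F) ≠ 0) :
    2 * Module.finrank ℂ (Vp n F (-1 : ℂ)) + 1 = Fintype.card F ^ n := by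
  have h := finrank_Vp (n := n) h2 (ε := -1) (by ring)
  have : ((2 * Module.finrank ℂ (Vp n F (-1 : ℂ)) + 1 : ℕ) : ℂ) = ((Fintype.card F ^ n : ℕ) : ℂ) := by
    push_cast; linear_combination h
  exact_mod_cast this

/-- The Weil representation gives the least degree. -/
theorem exists_irreducible (hn : 2 ≤ n) (h2 : (2 : F) ≠ 0) :
    ∃ ρ : Representation ℂ (Matrix.symplecticGroup (Fin n) F) (Fin ((Fintype.card F ^ n - 1) / 2) → ℂ),
      ρ.IsIrreducible := by
  let ψ := AddChar.FiniteField.primitiveChar_to_Complex F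
  have hψ : ψ.IsPrimitive := AddChar.FiniteField.primitiveChar_to_Complex_isPrimitive F
  have hd := two_mul_finrank (n := n) h2
  have hpos : 2 < Fintype.card F ^ n := calc
    2 < 2 ^ 2 := by norm_num
    _ ≤ Fintype.card F ^ 2 := Nat.pow_le_pow_left Fintype.one_lt_card 2
    _ ≤ _ := Nat.pow_le_pow_right Fintype.card_pos hn
  let e : Vp n F (-1 : ℂ) ≃ₗ[ℂ] (Fin ((Fintype.card F ^ n - 1) / 2) → ℂ) :=
    LinearEquiv.ofFinrankEq _ _ (by rw [Module.finrank_fintype_fun_eq_card, Fintype.card_fin]; omega)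
  refine ⟨{ toFun := fun g => e.conj (oddRep ψ h2 hψ g)
            map_one' := by rw [map_one]; exact e.conj_id
            map_mul' := fun g g' => by rw [map_mul]; exact LinearEquiv.conj_comp e _ _ }, ?_⟩
  rw [Representation.IsIrreducible]
  refine { exists_pair_ne := ⟨⊥, ⊤, fun h => ?_⟩, eq_bot_or_eq_top := fun U => ?_ }
  · have h1 := congrArg (fun U : Subrepresentation _ => Module.finrank ℂ U.toSubmodule) h
    change Module.finrank ℂ (⊥ : Submodule ℂ _) = Module.finrank ℂ (⊤ : Submodule ℂ _) at h1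
    rw [finrank_bot, finrank_top, Module.finrank_fintype_fun_eq_card, Fintype.card_fin] at h1
    omega
  · let W : Submodule ℂ (Vp n F (-1 : ℂ)) := U.toSubmodule.comap e.toLinearMap
    have hW : ∀ g, ∀ w ∈ W, oddRep ψ h2 hψ g w ∈ W := fun g w hw => by
      have := U.apply_mem_toSubmodule g hw
      simpa [W, LinearEquiv.conj_apply] using this
    let σ : Representation ℂ (Matrix.symplecticGroup (Fin n) F) W :=
      { toFun := fun g => (oddRep ψ h2 hψ g).restrict (hW g)
        map_one' := LinearMap.ext fun w => Subtype.ext (by simp)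
        map_mul' := fun g g' => LinearMap.ext fun w => Subtype.ext (by simp) }
    have hUW : U.toSubmodule = W.map e.toLinearMap :=
      (Submodule.map_comap_eq_of_surjective e.surjective U.toSubmodule).symm
    by_cases hσ : σ = 1
    · refine .inl (Subrepresentation.toSubmodule_injective ?_)
      have hW0 : W = ⊥ := (Submodule.eq_bot_iff W).2 fun w hw =>
        no_fixed ψ hn h2 hψ w fun g => congrArg Subtype.val (LinearMap.congr_fun (DFunLike.congr_fun hσ g) ⟨w, hw⟩)
      rw [hUW, hW0, Submodule.map_bot]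
      rfl
    · refine .inr (Subrepresentation.toSubmodule_injective ?_)
      have hb := degree_bound (V := ↥W) hn h2 σ (fun h => hσ h)
      have hle := Submodule.finrank_le W
      have hW1 : W = ⊤ := Submodule.eq_top_of_finrank_eq (by omega)
      rw [hUW, hW1, Submodule.map_top, LinearMap.range_eq_top.2 e.surjective]
      rfl

/-- Every irreducible representation of degree at least two has degree at least `(q ^ n - 1) / 2`. -/
theorem le_degree (hn : 2 ≤ n) (h2 : (2 : F) ≠ 0) (k : ℕ)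
    (ρ : Representation ℂ (Matrix.symplecticGroup (Fin n) F) (Fin k → ℂ)) (hρ : ρ.IsIrreducible) (hk : 2 ≤ k) :
    (Fintype.card F ^ n - 1) / 2 ≤ k := by
  have hne : ρ ≠ 1 := by
    intro h
    subst h
    let U : Subrepresentation (1 : Representation ℂ (Matrix.symplecticGroup (Fin n) F) (Fin k → ℂ)) :=
      ⟨Submodule.span ℂ {Pi.single ⟨0, by omega⟩ 1}, fun g v hv => hv⟩
    have := hρ
    rw [Representation.IsIrreducible] at this
    have hfr : Module.finrank ℂ U.toSubmodule = 1 := finrank_span_singleton (by simp)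
    rcases this.eq_bot_or_eq_top U with h | h
    · rw [h] at hfr
      change Module.finrank ℂ (⊥ : Submodule ℂ (Fin k → ℂ)) = 1 at hfr
      rw [finrank_bot] at hfr
      omega
    · rw [h] at hfr
      change Module.finrank ℂ (⊤ : Submodule ℂ (Fin k → ℂ)) = 1 at hfr
      rw [finrank_top, Module.finrank_fintype_fun_eq_card, Fintype.card_fin] at hfr
      omega
  have := degree_bound hn h2 ρ hne
  rw [Module.finrank_fintype_fun_eq_card, Fintype.card_fin] at this
  omega

end CfsgLib.PLocal.Weil
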