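import Cfsg.Agent.Lib.PLocal.Weil.Basic

/-!
# The linear Weil representation

The two parity blocks have dimensions differing by one, so dividing an intertwiner by the ratio
of its two block determinants removes the scalar ambiguity.
-/

set_option autoImplicit false

namespace CfsgLib.PLocal.Weil

open Matrix

variable {F : Type*} [Field F] [Fintype F] [DecidableEq F] {n : ℕ} (ψ : AddChar F ℂ)

theorem par_mul_self : par n F * par n F = 1 := by
  ext x z
  rw [Matrix.mul_apply, Finset.sum_eq_single (-x)]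
  rotate_left
  · intro y _ hy; simp [par, hy]
  · simp
  simp [par, Matrix.one_apply, eq_comm]

theorem trace_par (h2 : (2 : F) ≠ 0) : (par n F).trace = 1 := by
  rw [Matrix.trace, Finset.sum_eq_single (0 : Fin n → F)]
  rotate_left
  · intro x _ hx
    refine if_neg fun h => hx (funext fun i => ?_)
    have hi : x i = -x i := congrFun h i
    have : (2 : F) * x i = 0 := by linear_combination hi
    exact (mul_eq_zero.1 this).resolve_left h2
  · simp
  simp [par, Matrix.diag]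

theorem par_op (v : Fin n ⊕ Fin n → F) : par n F * op ψ v = op ψ (-v) * par n F := by
  have hn : px (-v) = -px v := rfl
  have hn' : py (-v) = -py v := rfl
  ext x z
  rw [Matrix.mul_apply, Matrix.mul_apply, Finset.sum_eq_single (-x), Finset.sum_eq_single (x + -px v)]
  rotate_left
  · intro y _ hy; simp [op, hn, hy]
  · simp
  · intro y _ hy; simp [par, hy]
  · simp
  simp only [par, op, hn, hn', if_true, one_mul, mul_ite, mul_one, mul_zero, neg_add, neg_neg,
    neg_dotProduct, dotProduct_neg]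

/-- An intertwiner commutes with the parity. -/
theorem commute_par (h2 : (2 : F) ≠ 0) (hψ : ψ.IsPrimitive)
    {A : Matrix (Fin n ⊕ Fin n) (Fin n ⊕ Fin n) F}
    {M : Matrix (Fin n → F) (Fin n → F) ℂ} (hMu : IsUnit M) (hM : Inter ψ A M) :
    par n F * M = M * par n F := by
  have hM' : Inter ψ A (par n F * M * par n F) := fun v => by
    rw [Matrix.mul_assoc _ (par n F), par_op, ← Matrix.mul_assoc, Matrix.mul_assoc _ M, hM,
      ← Matrix.mul_assoc, par_op, mulVec_neg, neg_neg]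
    simp only [Matrix.mul_assoc]
  obtain ⟨c, hc⟩ := inter_unique ψ h2 hψ hMu hM hM'
  have h1 : par n F * M = c • (M * par n F) := by
    rw [← Matrix.smul_mul, ← hc, Matrix.mul_assoc _ (par n F), par_mul_self, Matrix.mul_one]
  obtain ⟨u, rfl⟩ := hMu
  have h3 : (↑u⁻¹ : Matrix _ _ ℂ) * par n F * (↑u : Matrix _ _ ℂ) = c • par n F := by
    rw [Matrix.mul_assoc, h1, Matrix.mul_smul, ← Matrix.mul_assoc, Units.inv_mul, Matrix.one_mul]
  have h4 := congrArg Matrix.trace h3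
  rw [Matrix.trace_mul_cycle, Units.mul_inv, Matrix.one_mul, Matrix.trace_smul, trace_par h2,
    smul_eq_mul, mul_one] at h4
  rw [h1, ← h4, one_smul]

/-- A parity eigenspace. -/
noncomputable def Vp (n : ℕ) (F : Type*) [Field F] [Fintype F] [DecidableEq F] (ε : ℂ) :
    Submodule ℂ ((Fin n → F) → ℂ) :=
  LinearMap.ker (Matrix.toLin' (par n F) - ε • 1)

theorem mem_Vp (ε : ℂ) (f : (Fin n → F) → ℂ) : f ∈ Vp n F ε ↔ par n F *ᵥ f = ε • f := by
  simp [Vp, sub_eq_zero]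

theorem par_mulVec (f : (Fin n → F) → ℂ) (x : Fin n → F) : (par n F *ᵥ f) x = f (-x) := by
  simp [Matrix.mulVec, dotProduct, par]

theorem finrank_Vp (h2 : (2 : F) ≠ 0) {ε : ℂ} (hε : ε * ε = 1) :
    2 * (Module.finrank ℂ (Vp n F ε) : ℂ) = (Fintype.card F : ℂ) ^ n + ε := by
  let E : ((Fin n → F) → ℂ) →ₗ[ℂ] ((Fin n → F) → ℂ) :=
    (2⁻¹ : ℂ) • (1 + ε • Matrix.toLin' (par n F))
  have hEx : ∀ f, E f = (2⁻¹ : ℂ) • (f + ε • (par n F *ᵥ f)) := fun f => by simp [E]
  have hproj : LinearMap.IsProj (Vp n F ε) E := by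
    refine ⟨fun f => ?_, fun f hf => ?_⟩
    · rw [mem_Vp, hEx, mulVec_smul, mulVec_add, mulVec_smul, mulVec_mulVec, par_mul_self, one_mulVec,
        smul_comm ε (2⁻¹ : ℂ)]
      congr 1
      rw [smul_add, smul_smul, hε, one_smul, add_comm]
    · rw [mem_Vp] at hf
      rw [hEx, hf, smul_smul, hε, one_smul, ← two_smul ℂ f, inv_smul_smul₀ two_ne_zero]
  have h := hproj.trace
  rw [← h]
  simp only [E, map_smul, map_add, LinearMap.trace_one, Matrix.trace_toLin'_eq, trace_par h2,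
    Module.finrank_fintype_fun_eq_card, smul_eq_mul, mul_one, Fintype.card_fun, Fintype.card_fin]
  push_cast
  ring

variable (n F) in
/-- The matrices commuting with the parity. -/
noncomputable def Cp : Submonoid (Matrix (Fin n → F) (Fin n → F) ℂ) :=
  Submonoid.centralizer {par n F}

theorem mem_Cp (M : Matrix (Fin n → F) (Fin n → F) ℂ) : M ∈ Cp F n ↔ par n F * M = M * par n F := by
  simp [Cp, Submonoid.mem_centralizer_iff]

theorem mulVec_mem_Vp {ε : ℂ} {M : Matrix (Fin n → F) (Fin n → F) ℂ} (hM : M ∈ Cp F n)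
    {f : (Fin n → F) → ℂ} (hf : f ∈ Vp n F ε) : M *ᵥ f ∈ Vp n F ε := by
  rw [mem_Vp] at hf ⊢
  rw [mulVec_mulVec, (mem_Cp M).1 hM, ← mulVec_mulVec, hf, mulVec_smul]

/-- The action on a parity eigenspace. -/
noncomputable def blk (ε : ℂ) : Cp F n →* Module.End ℂ (Vp n F ε) where
  toFun M := (Matrix.toLin' M.1).restrict fun f hf => mulVec_mem_Vp M.2 hf
  map_one' := LinearMap.ext fun f => Subtype.ext (one_mulVec f.1)
  map_mul' M N := LinearMap.ext fun f => Subtype.ext (mulVec_mulVec f.1 M.1 N.1).symm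

theorem blk_apply (ε : ℂ) (M : Cp F n) (f : Vp n F ε) : ((blk ε M f : Vp n F ε) : (Fin n → F) → ℂ) = M.1 *ᵥ f.1 :=
  rfl

/-- The ratio of the two block determinants. -/
noncomputable def rat (M : Cp F n) : ℂ := LinearMap.det (blk 1 M) / LinearMap.det (blk (-1) M)

theorem rat_mul (M N : Cp F n) : rat (M * N) = rat M * rat N := by
  simp only [rat, map_mul]
  exact (div_mul_div_comm _ _ _ _).symm

theorem rat_one : rat (1 : Cp F n) = 1 := by simp [rat]

theorem rat_smul (h2 : (2 : F) ≠ 0) {c : ℂ} (hc : c ≠ 0) (M : Cp F n) (hcM : c • M.1 ∈ Cp F n) :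
    rat ⟨c • M.1, hcM⟩ = c * rat M := by
  have h : ∀ ε, blk ε (⟨c • M.1, hcM⟩ : Cp F n) = c • blk ε M := fun ε =>
    LinearMap.ext fun f => Subtype.ext (smul_mulVec c M.1 f.1)
  have hd : Module.finrank ℂ (Vp n F 1) = Module.finrank ℂ (Vp n F (-1 : ℂ)) + 1 := by
    have h1 := finrank_Vp (n := n) h2 (ε := 1) (by ring)
    have h1' := finrank_Vp (n := n) h2 (ε := -1) (by ring)
    have : (Module.finrank ℂ (Vp n F 1) : ℂ) = ((Module.finrank ℂ (Vp n F (-1 : ℂ)) + 1 : ℕ) : ℂ) := by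
      push_cast; linear_combination (h1 - h1') / 2
    exact_mod_cast this
  simp only [rat, h, LinearMap.det_smul, hd, pow_succ]
  field_simp

theorem exists_good (h2 : (2 : F) ≠ 0) (hψ : ψ.IsPrimitive) (g : Matrix.symplecticGroup (Fin n) F) :
    ∃ M : Cp F n, Inter ψ g.1 M.1 ∧ IsUnit M.1 ∧ rat M = 1 := by
  obtain ⟨M, hM0, hM⟩ := exists_inter ψ h2 hψ g.2
  have hu := isUnit_of_inter ψ h2 hψ g.2 hM0 hM
  obtain ⟨N, hN0, hN⟩ := exists_inter ψ h2 hψ (g⁻¹).2
  have hNu := isUnit_of_inter ψ h2 hψ (g⁻¹).2 hN0 hN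
  have hI : Inter ψ (1 : Matrix (Fin n ⊕ Fin n) (Fin n ⊕ Fin n) F) (N * M) := by
    have := Inter.mul ψ hN hM
    rwa [show (g⁻¹).1 * g.1 = 1 from congrArg Subtype.val (inv_mul_cancel g)] at this
  obtain ⟨c, hc⟩ := inter_unique ψ h2 hψ isUnit_one (inter_one ψ) hI
  have hMC : M ∈ Cp F n := (mem_Cp M).2 (commute_par ψ h2 hψ hu hM)
  have hNC : N ∈ Cp F n := (mem_Cp N).2 (commute_par ψ h2 hψ hNu hN)
  have hc0 : c ≠ 0 := fun e => mul_ne_zero_of_inter ψ h2 hψ hM0 hN0 hN (by rw [hc, e, zero_smul])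
  have hr : rat (⟨M, hMC⟩ : Cp F n) ≠ 0 := by
    intro e
    have h1 := rat_mul (⟨N, hNC⟩ : Cp F n) ⟨M, hMC⟩
    have h3 : (⟨N, hNC⟩ * ⟨M, hMC⟩ : Cp F n) = ⟨c • (1 : Cp F n).1, hc ▸ mul_mem hNC hMC⟩ :=
      Subtype.ext hc
    rw [h3, rat_smul h2 hc0 1, rat_one, mul_one, e, mul_zero] at h1
    exact hc0 h1
  have hsC : (rat (⟨M, hMC⟩ : Cp F n))⁻¹ • M ∈ Cp F n := by
    rw [mem_Cp, Matrix.mul_smul, Matrix.smul_mul, (mem_Cp M).1 hMC]
  refine ⟨⟨_, hsC⟩, fun v => ?_, ?_, ?_⟩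
  · show _ • M * _ = _ * (_ • M)
    rw [Matrix.smul_mul, Matrix.mul_smul, hM]
  · exact (isUnit_smul_iff (Units.mk0 _ (inv_ne_zero hr)) M).2 hu
  · rw [rat_smul h2 (inv_ne_zero hr) ⟨M, hMC⟩, inv_mul_cancel₀ hr]

theorem good_unique (h2 : (2 : F) ≠ 0) (hψ : ψ.IsPrimitive)
    {A : Matrix (Fin n ⊕ Fin n) (Fin n ⊕ Fin n) F} {M N : Cp F n}
    (hM : Inter ψ A M.1) (hMu : IsUnit M.1) (hMr : rat M = 1) (hN : Inter ψ A N.1) (hNu : IsUnit N.1)
    (hNr : rat N = 1) : M = N := by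
  obtain ⟨c, hc⟩ := inter_unique ψ h2 hψ hMu hM hN
  have hc0 : c ≠ 0 := fun e => hNu.ne_zero (by rw [hc, e, zero_smul])
  have hN' : N = ⟨c • M.1, hc ▸ N.2⟩ := Subtype.ext hc
  rw [hN', rat_smul h2 hc0, hMr, mul_one] at hNr
  exact Subtype.ext (by rw [hc, hNr, one_smul])

/-- The Weil representation by matrices. -/
noncomputable def weil (h2 : (2 : F) ≠ 0) (hψ : ψ.IsPrimitive) :
    Matrix.symplecticGroup (Fin n) F →* Cp F n where
  toFun g := (exists_good ψ h2 hψ g).choose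
  map_one' := by
    obtain ⟨h1, h1u, h1r⟩ := (exists_good ψ h2 hψ (1 : Matrix.symplecticGroup (Fin n) F)).choose_spec
    exact good_unique ψ h2 hψ h1 h1u h1r (inter_one ψ) isUnit_one rat_one
  map_mul' g g' := by
    obtain ⟨h, hu, hr⟩ := (exists_good ψ h2 hψ g).choose_spec
    obtain ⟨h', hu', hr'⟩ := (exists_good ψ h2 hψ g').choose_spec
    obtain ⟨h1, h1u, h1r⟩ := (exists_good ψ h2 hψ (g * g')).choose_spec
    exact good_unique ψ h2 hψ h1 h1u h1r (Inter.mul ψ h h') (hu.mul hu') (by rw [rat_mul, hr, hr', one_mul])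

/-- The Weil matrices are proportional to any intertwiner. -/
theorem weil_prop (h2 : (2 : F) ≠ 0) (hψ : ψ.IsPrimitive) (g : Matrix.symplecticGroup (Fin n) F)
    {M : Matrix (Fin n → F) (Fin n → F) ℂ} (hM : Inter ψ g.1 M) (hM0 : M ≠ 0) :
    ∃ c : ℂ, c ≠ 0 ∧ (weil ψ h2 hψ g).1 = c • M := by
  obtain ⟨h, hu, -⟩ := (exists_good ψ h2 hψ g).choose_spec
  obtain ⟨c, hc⟩ := inter_unique ψ h2 hψ (isUnit_of_inter ψ h2 hψ g.2 hM0 hM) hM h
  exact ⟨c, fun e => hu.ne_zero (by rw [hc, e, zero_smul]), hc⟩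

/-- The Weil representation on the odd functions. -/
noncomputable def oddRep (h2 : (2 : F) ≠ 0) (hψ : ψ.IsPrimitive) :
    Representation ℂ (Matrix.symplecticGroup (Fin n) F) (Vp n F (-1)) :=
  (blk (-1)).comp (weil ψ h2 hψ)

end CfsgLib.PLocal.Weil
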